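import Groth.Agent.RadBoundLib.GrLocus
import Groth.Agent.AlgSpLib.Reduced
import Groth.Agent.AlgSpLib.ReducedStalk
import Groth.Agent.AlgSpLib.Qc
import Groth.Agent.AlgSpLib.HasAt
import Groth.Agent.RadBoundLib.GrPointwise
import Groth.Prelude.Def_AlgSpDec
import Groth.Prelude.Def_AlgSp4

/-!
# Geometrically reduced fibres of morphisms of algebraic spaces

The locus is computed on an etale chart `h : U ⟶ V` of the morphism, where it is `grLocus h.left`.
-/

set_option autoImplicit false
set_option linter.style.haveILetI false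
universe u

open CategoryTheory CategoryTheory.Limits AlgebraicGeometry Topology AlgSp AlgSpLib

namespace GeomRedSpLib

variable {S : Scheme.{u}} {F G : Sp S}

/-- The geometric fibres over the field point `k` are reduced. -/
def GoodPt (f : F ⟶ G) (k : FieldPt G) : Prop :=
  ∀ (k' : Type u) [Field k'] (φ : k.K →+* k') (Xk' : Sp S) (a : Xk' ⟶ F)
    (b : Xk' ⟶ (yon S).obj (Over.mk (Spec.map (CommRingCat.ofHom φ) ≫ k.str))),
    IsPullback a b f ((yon S).map (Over.homMk (Spec.map (CommRingCat.ofHom φ)) rfl :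
      Over.mk (Spec.map (CommRingCat.ofHom φ) ≫ k.str) ⟶ k.pt) ≫ k.toHom) →
    EtaleLocally (fun U => IsReduced U) Xk'

/-- Every fibre over the point `y` is geometrically reduced. -/
def Good (f : F ⟶ G) (y : Points G) : Prop :=
  ∀ k : FieldPt G, Points.mk k = y → GoodPt f k

variable {f : F ⟶ G} {U V : Over S} {b : (yon S).obj V ⟶ G} {r : (yon S).obj U ⟶ pullback f b} {h : U ⟶ V}

/-- Reducedness of a base change is seen on the base change of a chart. -/
theorem isReducedSp_iff_chart (hr : RepWith @Etale r) (hrs : RepWith @Surjective r)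
    (e : r ≫ pullback.snd f b = (yon S).map h) {T : Over S} (τ : T ⟶ V) {P : Sp S} {p : P ⟶ F}
    {q : P ⟶ (yon S).obj T} (sq : IsPullback p q f ((yon S).map τ ≫ b)) :
    IsReducedSp P ↔ IsReduced (pullback h.left τ.left) := by
  let l : P ⟶ pullback f b := pullback.lift p (q ≫ (yon S).map τ) (by rw [Category.assoc]; exact sq.w)
  have sqX : IsPullback l q (pullback.snd f b) ((yon S).map τ) := by
    refine IsPullback.of_right ?_ (pullback.lift_snd _ _ _) (IsPullback.of_hasPullback f b)
    rw [pullback.lift_fst]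
    exact sq
  have sqU : IsPullback ((yon S).map (pullback.fst h τ)) ((yon S).map (pullback.snd h τ))
      ((yon S).map h) ((yon S).map τ) := (IsPullback.of_hasPullback h τ).map (yon S)
  let m : (yon S).obj (pullback h τ) ⟶ P :=
    sqX.lift ((yon S).map (pullback.fst h τ) ≫ r) ((yon S).map (pullback.snd h τ))
      (by rw [Category.assoc, e]; exact sqU.w)
  have hm : IsPullback ((yon S).map (pullback.fst h τ)) m r l := by
    refine IsPullback.of_bot ?_ (sqX.lift_fst _ _ _).symm sqX
    rw [e, sqX.lift_snd]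
    exact sqU
  let i := (isPullback_left sqU).isoPullback
  refine ⟨fun hP => ?_, fun hU => ?_⟩
  · haveI : IsReduced (pullback h τ).left := isReduced_of_chart hP (repWith_of_isPullback hm hr)
    exact isReduced_of_isOpenImmersion i.inv
  · haveI := hU
    exact ⟨pullback h τ, m, repWith_of_isPullback hm hr, repWith_of_isPullback hm hrs,
      isReduced_of_isOpenImmersion i.hom⟩

/-- Reducedness of a base change descends along a flat surjective map of bases. -/
theorem isReducedSp_descend (hF : IsAlgSpace F) (hG : IsAlgSpace G) {T T' : Over S} (ω : T' ⟶ T)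
    [Flat ω.left] [Surjective ω.left] {g : (yon S).obj T ⟶ G} {P P' : Sp S} {p : P ⟶ F}
    {q : P ⟶ (yon S).obj T} {p' : P' ⟶ F} {q' : P' ⟶ (yon S).obj T'} (sq : IsPullback p q f g)
    (sq' : IsPullback p' q' f ((yon S).map ω ≫ g)) (h' : IsReducedSp P') : IsReducedSp P := by
  let l : P' ⟶ P := sq.lift p' (q' ≫ (yon S).map ω) (by rw [Category.assoc]; exact sq'.w)
  have sql : IsPullback l q' q ((yon S).map ω) := by
    refine IsPullback.of_right ?_ (sq.lift_snd _ _ _) sq
    rw [sq.lift_fst]
    exact sq'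
  have hP : IsAlgSpace P := isAlgSpace_of_isPullback hF (IsAlgSpace.yon_obj T) hG sq
  have hP' : IsAlgSpace P' := isAlgSpace_of_isPullback hF (IsAlgSpace.yon_obj T') hG sq'
  have hfl : LocP @Flat ((yon S).map ω) := (locP_yon_map_iff ω).2 ‹_›
  refine isReducedSp_of_flat_surjective (f := l) hP' hP ?_ ?_ h'
  · exact locP_of_isPullback (IsAlgSpace.yon_obj T') (IsAlgSpace.yon_obj T) hP sql.flip hfl
  · exact map_surjective_of_isPullback sql.flip (map_surjective_of_repWith
      ((repWith_yon_map_iff (P := (@Surjective : MorphismProperty Scheme.{u})) ω).2 ‹_›))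

/-- A common field valued point. -/
theorem exists_common (hb : RepWith @Etale b) (k : FieldPt G) (v : V.left)
    (hv : Points.ofPt b v = Points.mk k) :
    ∃ (Ω : Type u) (_ : Field Ω) (_ : IsAlgClosed Ω) (φ : k.K →+* Ω)
      (τ : Over.mk (Spec.map (CommRingCat.ofHom φ) ≫ k.str) ⟶ V) (x : Spec (CommRingCat.of Ω)),
      τ.left.base x = v ∧ (yon S).map (Over.homMk (Spec.map (CommRingCat.ofHom φ)) rfl :
        Over.mk (Spec.map (CommRingCat.ofHom φ) ≫ k.str) ⟶ k.pt) ≫ k.toHom = (yon S).map τ ≫ b := by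
  obtain ⟨W, p, q, sqW⟩ := exists_isPullback_yon b k.toHom hb.rep
  obtain ⟨w, hw, -⟩ := (ofPt_eq_ofPt_iff sqW v (IsLocalRing.closedPoint k.K)).1
    (hv.trans (Points.ofPt_toHom k (IsLocalRing.closedPoint k.K)).symm)
  let Ω := AlgebraicClosure (W.left.residueField w)
  let z : Spec (CommRingCat.of Ω) ⟶ W.left :=
    Spec.map (CommRingCat.ofHom (algebraMap (W.left.residueField w) Ω)) ≫ W.left.fromSpecResidueField w
  let φ : k.K →+* Ω := (Spec.preimage (z ≫ q.left : Spec (CommRingCat.of Ω) ⟶ Spec (CommRingCat.of k.K))).hom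
  have hφ : Spec.map (CommRingCat.ofHom φ) = z ≫ q.left := Spec.map_preimage _
  let z' : Over.mk (Spec.map (CommRingCat.ofHom φ) ≫ k.str) ⟶ W := Over.homMk z (by
    show z ≫ W.hom = Spec.map (CommRingCat.ofHom φ) ≫ k.str
    rw [hφ, Category.assoc]
    exact congrArg (z ≫ ·) (Over.w q).symm)
  refine ⟨Ω, inferInstance, inferInstance, φ, z' ≫ p, (⟨⊥, Ideal.isPrime_bot⟩ : PrimeSpectrum Ω), ?_, ?_⟩
  · show p.left.base (z.base _) = v
    rw [← hw]
    exact congrArg p.left.base (W.left.fromSpecResidueField_apply w _)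
  · rw [Functor.map_comp, Category.assoc, sqW.w, ← Category.assoc, ← Functor.map_comp]
    congr 2
    exact Over.OverMorphism.ext hφ

/-- The locus read on a chart. -/
theorem good_iff (hF : IsAlgSpace F) (hG : IsAlgSpace G) (hb : RepWith @Etale b) (hr : RepWith @Etale r)
    (hrs : RepWith @Surjective r) (e : r ≫ pullback.snd f b = (yon S).map h) (v : V.left) :
    Good f (Points.ofPt b v) ↔ v ∈ RadBoundLib.grLocus h.left := by
  refine ⟨fun hy => ?_, fun hv k hk k' _ φ Xk' a c sq => ?_⟩
  · obtain ⟨Ω, _, _, φ, τ, x, hx, he⟩ := exists_common hb (FieldPt.ofPt b v) v rfl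
    haveI : PerfectField Ω := IsAlgClosed.perfectField Ω
    have sq := IsPullback.of_hasPullback f ((yon S).map τ ≫ b)
    have h2 := hy (FieldPt.ofPt b v) rfl Ω φ _ _ _ (by rw [he]; exact sq)
    rw [← hx, RadBoundLib.mem_grLocus_iff h.left Ω τ.left x]
    exact (isReducedSp_iff_chart hr hrs e τ sq).1 h2
  · let k₁ : FieldPt G := ⟨k', Spec.map (CommRingCat.ofHom φ) ≫ k.str,
      (J S).uliftYonedaEquiv ((yon S).map (Over.homMk (Spec.map (CommRingCat.ofHom φ)) rfl :
        Over.mk (Spec.map (CommRingCat.ofHom φ) ≫ k.str) ⟶ k.pt) ≫ k.toHom)⟩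
    have hk₁ : k₁.toHom = (yon S).map (Over.homMk (Spec.map (CommRingCat.ofHom φ)) rfl :
        Over.mk (Spec.map (CommRingCat.ofHom φ) ≫ k.str) ⟶ k.pt) ≫ k.toHom := Equiv.symm_apply_apply _ _
    have hmk : Points.ofPt b v = Points.mk k₁ := by
      rw [← hk, ← Points.ofPt_toHom k₁ (IsLocalRing.closedPoint k'), hk₁]
      refine ((ofPt_yon_comp _ k.toHom _).trans ?_).symm
      exact Points.ofPt_toHom k _
    obtain ⟨Ω, _, _, ψ, τ, x, hx, he⟩ := exists_common hb k₁ v hmk
    haveI : PerfectField Ω := IsAlgClosed.perfectField Ω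
    let ω : Over.mk (Spec.map (CommRingCat.ofHom ψ) ≫ k₁.str) ⟶ k₁.pt :=
      Over.homMk (Spec.map (CommRingCat.ofHom ψ)) rfl
    haveI : Flat ω.left := by
      show Flat (Spec.map (CommRingCat.ofHom ψ))
      rw [Flat.SpecMap_iff]
      letI := ψ.toAlgebra
      exact RingHom.flat_algebraMap_iff.2 (Module.Flat.of_free (R := k₁.K) (M := Ω))
    haveI : Surjective ω.left := ⟨fun z => ⟨(⟨⊥, Ideal.isPrime_bot⟩ : PrimeSpectrum Ω),
      Subsingleton.elim (α := PrimeSpectrum k') _ _⟩⟩
    have sq₁ : IsPullback a c f k₁.toHom := hk₁ ▸ sq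
    have sqτ := IsPullback.of_hasPullback f ((yon S).map τ ≫ b)
    refine isReducedSp_descend hF hG ω sq₁ (p' := pullback.fst f ((yon S).map τ ≫ b))
      (q' := pullback.snd f ((yon S).map τ ≫ b)) (by rw [he]; exact sqτ) ?_
    have hred : IsReducedSp (pullback f ((yon S).map τ ≫ b)) := by
      refine (isReducedSp_iff_chart hr hrs e τ sqτ).2 ?_
      rw [← RadBoundLib.mem_grLocus_iff h.left Ω τ.left x, hx]
      exact hv
    exact hred

/-- One geometrically reduced fibre over a point makes all geometrically reduced. -/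
theorem good_of_goodPt (hF : IsAlgSpace F) (hG : IsAlgSpace G) (k : FieldPt G) (hk : GoodPt f k) :
    Good f (Points.mk k) := by
  obtain ⟨V, b, hb, hbs⟩ := hG.atlas
  obtain ⟨v, hv⟩ := surjective_ofPt hbs (Points.mk k)
  obtain ⟨U, r, h, hr, hrs, e⟩ := exists_atlas_pullback hF hG f b
  rw [← hv, good_iff hF hG hb hr hrs e]
  obtain ⟨Ω, _, _, φ, τ, x, hx, he⟩ := exists_common hb k v hv
  haveI : PerfectField Ω := IsAlgClosed.perfectField Ω
  have sq := IsPullback.of_hasPullback f ((yon S).map τ ≫ b)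
  have h2 := hk Ω φ _ _ _ (by rw [he]; exact sq)
  rw [← hx, RadBoundLib.mem_grLocus_iff h.left Ω τ.left x]
  exact (isReducedSp_iff_chart hr hrs e τ sq).1 h2

/-- Reduced fibres over all field points of a point make them geometrically reduced. -/
theorem good_iff_forall_reduced (y : Points G) :
    Good f y ↔ ∀ (k : FieldPt G), Points.mk k = y →
      ∀ (Xk : Sp S) (a : Xk ⟶ F) (b : Xk ⟶ (yon S).obj k.pt), IsPullback a b f k.toHom →
        EtaleLocally (fun U => IsReduced U) Xk := by
  refine ⟨fun hy k hk Xk a c sq => ?_, fun H k hk k' _ φ Xk' a c sq => ?_⟩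
  · let ω : Over.mk (Spec.map (CommRingCat.ofHom (RingHom.id k.K)) ≫ k.str) ⟶ k.pt :=
      Over.homMk (Spec.map (CommRingCat.ofHom (RingHom.id k.K))) rfl
    haveI : IsIso ω.left := by
      show IsIso (Spec.map (CommRingCat.ofHom (RingHom.id k.K)))
      rw [CommRingCat.ofHom_id, Spec.map_id]
      infer_instance
    haveI : IsIso ((yon S).map ω) := by
      haveI : IsIso ((Over.forget S).map ω) := ‹IsIso ω.left›
      haveI : IsIso ω := isIso_of_reflects_iso ω (Over.forget S)
      infer_instance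
    refine hy k hk k.K (RingHom.id k.K) Xk a (c ≫ inv ((yon S).map ω))
      (IsPullback.of_iso sq (Iso.refl _) (Iso.refl _) (asIso ((yon S).map ω)).symm (Iso.refl _) ?_ ?_ ?_ ?_)
    · simp
    · simp
    · simp
    · simp [ω]
  · let k₁ : FieldPt G := ⟨k', Spec.map (CommRingCat.ofHom φ) ≫ k.str,
      (J S).uliftYonedaEquiv ((yon S).map (Over.homMk (Spec.map (CommRingCat.ofHom φ)) rfl :
        Over.mk (Spec.map (CommRingCat.ofHom φ) ≫ k.str) ⟶ k.pt) ≫ k.toHom)⟩
    have hk₁ : k₁.toHom = (yon S).map (Over.homMk (Spec.map (CommRingCat.ofHom φ)) rfl :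
        Over.mk (Spec.map (CommRingCat.ofHom φ) ≫ k.str) ⟶ k.pt) ≫ k.toHom := Equiv.symm_apply_apply _ _
    refine H k₁ ?_ Xk' a c (hk₁ ▸ sq)
    rw [← hk, ← Points.ofPt_toHom k₁ (IsLocalRing.closedPoint k'), hk₁]
    exact (ofPt_yon_comp _ k.toHom _).trans (Points.ofPt_toHom k _)

/-- Geometric reducedness at a point is invariant under etale maps. -/
theorem isGeomReducedAt_etale_iff {k : Type u} [Field k] {Z' Z : Scheme.{u}} (a : Z' ⟶ Z) [Etale a]
    (q : Z ⟶ Spec (CommRingCat.of k)) (z : Z') :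
    FBase.IsGeomReducedAt (a ≫ q) z ↔ FBase.IsGeomReducedAt q (a.base z) := by
  let M (K : Type u) [Field K] [Algebra k K] : FBase.bc (a ≫ q) K ⟶ FBase.bc q K :=
    pullback.lift (FBase.bcπ (a ≫ q) K ≫ a) (FBase.bcStr (a ≫ q) K)
      ((Category.assoc _ _ _).trans pullback.condition)
  have sq : ∀ (K : Type u) [Field K] [Algebra k K],
      IsPullback (FBase.bcπ (a ≫ q) K) (M K) a (FBase.bcπ q K) := fun K _ _ ↦ by
    refine IsPullback.of_bot ?_ (pullback.lift_fst _ _ _).symm
      (IsPullback.of_hasPullback q (Spec.map (CommRingCat.ofHom (algebraMap k K))))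
    rw [show M K ≫ pullback.snd q (Spec.map (CommRingCat.ofHom (algebraMap k K))) =
        FBase.bcStr (a ≫ q) K from pullback.lift_snd _ _ _]
    exact IsPullback.of_hasPullback _ _
  constructor
  · intro H K _ _ x hx
    haveI : Etale (M K) := MorphismProperty.of_isPullback (P := @Etale) (sq K) ‹_›
    obtain ⟨c, hc, hc'⟩ := Scheme.Pullback.exists_preimage_pullback (f := a) (g := FBase.bcπ q K) z x hx.symm
    let i := (sq K).isoPullback
    obtain ⟨x', rfl⟩ := i.hom.surjective c
    have h1 : (FBase.bcπ (a ≫ q) K).base x' = z := by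
      rw [← hc, ← Scheme.Hom.comp_apply, (sq K).isoPullback_hom_fst]
    have h2 : (M K).base x' = x := by
      rw [← hc', ← Scheme.Hom.comp_apply, (sq K).isoPullback_hom_snd]
    haveI := H K x' h1
    rw [← h2]
    exact isReduced_stalk_of_flat (M K) x'
  · intro H K _ _ x' hx'
    haveI : Etale (M K) := MorphismProperty.of_isPullback (P := @Etale) (sq K) ‹_›
    haveI := H K ((M K).base x') (by
      rw [← Scheme.Hom.comp_apply, ← (sq K).w, Scheme.Hom.comp_apply, hx'])
    exact isReduced_stalk_of_smooth (M K) x'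

open RadBoundLib (redAt mem_grLocus_iff_forall_redAt)

theorem redAt_etale_iff {A' A B : Scheme.{u}} (a : A' ⟶ A) [Etale a] (g : A ⟶ B) (x : A') :
    x ∈ redAt (a ≫ g) ↔ a.base x ∈ redAt g := by
  let y := g.base (a.base x)
  let m : (a ≫ g).fiber y ⟶ g.fiber y := pullback.lift ((a ≫ g).fiberι y ≫ a)
    ((a ≫ g).fiberToSpecResidueField y) (by rw [Category.assoc]; exact (a ≫ g).fiber_fac y)
  have hsq : IsPullback ((a ≫ g).fiberι y) m a (g.fiberι y) := by
    refine IsPullback.of_bot ?_ (pullback.lift_fst _ _ _).symm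
      (IsPullback.of_hasPullback g (B.fromSpecResidueField y))
    rw [show m ≫ pullback.snd g (B.fromSpecResidueField y) = (a ≫ g).fiberToSpecResidueField y from
      pullback.lift_snd _ _ _]
    exact IsPullback.of_hasPullback (a ≫ g) (B.fromSpecResidueField y)
  haveI : Etale m := MorphismProperty.of_isPullback (P := @Etale) hsq ‹_›
  have hm : m ≫ g.fiberToSpecResidueField y = (a ≫ g).fiberToSpecResidueField y := pullback.lift_snd _ _ _
  have hz : m.base ((a ≫ g).asFiber x) = g.asFiber (a.base x) := by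
    refine (g.fiberι y).isEmbedding.injective ?_
    rw [← Scheme.Hom.comp_apply, ← hsq.w, Scheme.Hom.comp_apply]
    exact (congrArg a.base ((a ≫ g).fiberι_asFiber x)).trans (g.fiberι_asFiber (a.base x)).symm
  show FBase.IsGeomReducedAt ((a ≫ g).fiberToSpecResidueField y) ((a ≫ g).asFiber x) ↔
    FBase.IsGeomReducedAt (g.fiberToSpecResidueField y) (g.asFiber (a.base x))
  rw [← hm, ← hz]
  exact isGeomReducedAt_etale_iff (k := B.residueField y) m (g.fiberToSpecResidueField y) ((a ≫ g).asFiber x)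

/-- Constructibility on affine etale charts. -/
theorem isConstructible_good (hF : IsAlgSpace F) (hG : IsAlgSpace G) (hqc : IsQuasiCompactMor f)
    (hlfp : LocP @LocallyOfFinitePresentation f) (V : Over S) (hV : IsAffine V.left)
    (b : (yon S).obj V ⟶ G) (hb : RepWith @Etale b) :
    IsConstructible (Points.ofPt b ⁻¹' {y | Good f y}) := by
  haveI := hV
  have sq := IsPullback.of_hasPullback f b
  obtain ⟨U, r, hU, hr, hrs⟩ := exists_affine_chart
    (hqc (IsAlgSpace.yon_obj V) (isQuasiCompactSp_yon V) b _ _ sq)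
  obtain ⟨h, hh⟩ := (yon S).map_surjective (r ≫ pullback.snd f b)
  haveI := hU
  haveI : IsAffineHom h.left := isAffineHom_of_isAffine _
  haveI : LocallyOfFinitePresentation h.left :=
    hlfp (r ≫ pullback.fst f b) b h (repWith_comp hr (repWith_of_isPullback sq.flip hb)) hb
      (by rw [Category.assoc, sq.w, hh, Category.assoc])
  have e : Points.ofPt b ⁻¹' {y | Good f y} = RadBoundLib.grLocus h.left :=
    Set.ext fun v => good_iff hF hG hb hr hrs hh.symm v
  rw [e]
  exact (RadBoundLib.isLocallyConstructible_grLocus h.left).isConstructible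

/-- Openness for flat, universally closed morphisms of finite presentation. -/
theorem isOpen_good (hF : IsAlgSpace F) (hG : IsAlgSpace G) (hflat : LocP @Flat f)
    (huc : IsUnivClosedMor f) (hlfp : LocP @LocallyOfFinitePresentation f) :
    IsOpen {y | Good f y} := by
  obtain ⟨V, b, hb, hbs⟩ := hG.atlas
  obtain ⟨U, r, h, hr, hrs, e⟩ := exists_atlas_pullback hF hG f b
  rw [← (isQuotientMap_ofPt hb hbs).isOpen_preimage]
  have sq := IsPullback.of_hasPullback f b
  have hch : (r ≫ pullback.fst f b) ≫ f = (yon S).map h ≫ b := by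
    rw [Category.assoc, sq.w, ← e, Category.assoc]
  have hrb := repWith_comp hr (repWith_of_isPullback sq.flip hb)
  haveI : Flat h.left := hflat _ b h hrb hb hch
  haveI : LocallyOfFinitePresentation h.left := hlfp _ b h hrb hb hch
  have hO : IsOpen (redAt h.left) := Groth.Agent.S2549.result h.left
  -- saturation over the pullback
  have hsat : ∀ u u' : U.left, Points.ofPt r u = Points.ofPt r u' → u ∈ redAt h.left → u' ∈ redAt h.left := by
    intro u u' huu hu
    obtain ⟨W, p, p', sqW⟩ := exists_isPullback_yon r r hr.rep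
    obtain ⟨w, hw, hw'⟩ := (ofPt_eq_ofPt_iff sqW u u').1 huu
    haveI : Etale p'.left := etale_left (repWith_of_isPullback sqW hr)
    haveI : Etale p.left := etale_left (repWith_of_isPullback sqW.flip hr)
    have hpp : p ≫ h = p' ≫ h := (yon S).map_injective (by
      rw [Functor.map_comp, Functor.map_comp, ← e, reassoc_of% sqW.w])
    have hpl : p.left ≫ h.left = p'.left ≫ h.left := congrArg CommaMorphism.left hpp
    subst hw hw'
    rw [← redAt_etale_iff] at hu ⊢
    rwa [← hpl]
  have hclosed : IsClosed (Points.ofPt r '' (redAt h.left)ᶜ) := by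
    rw [← (isQuotientMap_ofPt hr hrs).isClosed_preimage]
    convert hO.isClosed_compl using 1
    ext u'
    exact ⟨fun ⟨u, hu, huu⟩ hu' => hu (hsat u' u huu.symm hu'), fun hu' => ⟨u', hu', rfl⟩⟩
  have hcl := huc (IsAlgSpace.yon_obj V) b _ _ sq
  have himg : IsClosed (h.left.base '' (redAt h.left)ᶜ) := by
    have h1 := (hcl _ hclosed).preimage (Points.schemeHomeo V).continuous
    convert h1 using 1
    have hm : ∀ u, Points.map (pullback.snd f b) (Points.ofPt r u) = Points.schemeHomeo V (h.left.base u) := by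
      intro u
      rw [Points.map_ofPt, e, ← Category.comp_id ((yon S).map h), ofPt_yon_comp]
      rw [Points.ofPt_eq_map_ofScheme, Points.map_id]
      rfl
    ext v
    constructor
    · rintro ⟨u, hu, rfl⟩
      exact ⟨_, ⟨u, hu, rfl⟩, hm u⟩
    · rintro ⟨_, ⟨u, hu, rfl⟩, huv⟩
      exact ⟨u, hu, (Points.schemeHomeo V).injective ((hm u).symm.trans huv)⟩
  convert himg.isOpen_compl using 1
  ext v
  refine (good_iff hF hG hb hr hrs e v).trans ((mem_grLocus_iff_forall_redAt h.left v).trans ?_)
  exact ⟨fun H ⟨u, hu, huv⟩ => hu (H u huv), fun H u huv => not_not.1 fun hu => H ⟨u, hu, huv⟩⟩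

end GeomRedSpLib
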