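import Groth.Agent.GeomRedSpLib.Main
import Groth.Agent.GeomRedFieldLib.Locus

/-!
# Geometric reducedness of algebraic spaces over a field at a point
-/

set_option autoImplicit false
set_option linter.style.haveILetI false
universe u

open CategoryTheory CategoryTheory.Limits AlgebraicGeometry Topology AlgSp AlgSpLib

namespace GeomRedSpLib

variable {k : Type u} [Field k]

/-- Geometric reducedness at a point is invariant under extension of the ground field. -/
theorem isGeomReducedAt_bcStr_iff {X : Scheme.{u}} (f : X ⟶ Spec (CommRingCat.of k)) (K : Type u) [Field K]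
    [Algebra k K] (x' : ↥(FBase.bc f K)) :
    FBase.IsGeomReducedAt (FBase.bcStr f K) x' ↔ FBase.IsGeomReducedAt f ((FBase.bcπ f K).base x') := by
  let sK := Spec.map (CommRingCat.ofHom (algebraMap k K))
  constructor
  · intro H k' _ _ z hz
    let sk := Spec.map (CommRingCat.ofHom (algebraMap k k'))
    obtain ⟨t, ht, ht'⟩ := Scheme.Pullback.exists_preimage_pullback (f := pullback.fst f sK) (g := pullback.fst f sk)
      x' z hz.symm
    let P := pullback (pullback.fst f sK) (pullback.fst f sk)
    let Ω : Type u := P.residueField t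
    obtain ⟨e₁, e₂, he, hc1, hc2⟩ : ∃ (e₁ : Spec (CommRingCat.of Ω) ⟶ pullback f sK)
        (e₂ : Spec (CommRingCat.of Ω) ⟶ pullback f sk), e₁ ≫ pullback.fst f sK = e₂ ≫ pullback.fst f sk ∧
          (∀ c, e₁.base c = x') ∧ ∀ c, e₂.base c = z := by
      refine ⟨P.fromSpecResidueField t ≫ pullback.fst _ _, P.fromSpecResidueField t ≫ pullback.snd _ _,
        by simp only [Category.assoc, pullback.condition], fun c => ?_, fun c => ?_⟩
      · exact ((Scheme.Hom.comp_apply _ _ _).trans
          (congrArg (pullback.fst (pullback.fst f sK) (pullback.fst f sk)).base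
            (P.fromSpecResidueField_apply t c))).trans ht
      · exact ((Scheme.Hom.comp_apply _ _ _).trans
          (congrArg (pullback.snd (pullback.fst f sK) (pullback.fst f sk)).base
            (P.fromSpecResidueField_apply t c))).trans ht'
    obtain ⟨φ, hφ⟩ := Spec.map_surjective (e₁ ≫ pullback.snd f sK)
    obtain ⟨ψ, hψ⟩ := Spec.map_surjective (e₂ ≫ pullback.snd f sk)
    have hcomp : Spec.map φ ≫ sK = Spec.map ψ ≫ sk := by
      rw [hφ, hψ, Category.assoc, Category.assoc, ← pullback.condition, ← pullback.condition,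
        ← Category.assoc, ← Category.assoc, he]
    letI : Algebra K Ω := φ.hom.toAlgebra
    let sΩ : Spec (CommRingCat.of Ω) ⟶ Spec (CommRingCat.of K) := Spec.map φ
    let A := pullback (pullback.snd f sK) sΩ
    let w₀ : Spec (CommRingCat.of Ω) ⟶ A :=
      pullback.lift e₁ (𝟙 _) (hφ.symm.trans (Category.id_comp _).symm)
    let m : A ⟶ pullback f sk := pullback.lift (pullback.fst (pullback.snd f sK) sΩ ≫ pullback.fst f sK)
      (pullback.snd (pullback.snd f sK) sΩ ≫ Spec.map ψ) (by
        rw [Category.assoc, Category.assoc, pullback.condition, ← Category.assoc, pullback.condition,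
          Category.assoc, ← hcomp])
    have sqm : IsPullback m (pullback.snd (pullback.snd f sK) sΩ) (pullback.snd f sk) (Spec.map ψ) := by
      refine IsPullback.of_right (h₁₂ := pullback.fst f sk) (v₁₃ := f) (h₂₂ := sk) ?_ (pullback.lift_snd _ _ _)
        (IsPullback.of_hasPullback f sk)
      rw [show m ≫ pullback.fst f sk = pullback.fst (pullback.snd f sK) sΩ ≫ pullback.fst f sK from
        pullback.lift_fst _ _ _, ← hcomp]
      exact (IsPullback.of_hasPullback (pullback.snd f sK) sΩ).paste_horiz (IsPullback.of_hasPullback f sK)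
    haveI : Flat (Spec.map ψ) := by
      rw [Flat.SpecMap_iff]
      letI := ψ.hom.toAlgebra
      exact RingHom.flat_algebraMap_iff.2 (Module.Flat.of_free (R := k') (M := Ω))
    haveI : Flat m := MorphismProperty.of_isPullback (P := @Flat) sqm.flip ‹_›
    let c : Spec (CommRingCat.of Ω) := IsLocalRing.closedPoint Ω
    have h1 : (pullback.fst (pullback.snd f sK) sΩ).base (w₀.base c) = x' := by
      rw [← Scheme.Hom.comp_apply, pullback.lift_fst]
      exact hc1 c
    have h2 : m.base (w₀.base c) = z := by
      have : w₀ ≫ m = e₂ := by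
        apply pullback.hom_ext
        · rw [Category.assoc, pullback.lift_fst, ← Category.assoc, pullback.lift_fst, he]
        · rw [Category.assoc, pullback.lift_snd, ← Category.assoc, pullback.lift_snd, Category.id_comp, hψ]
      rw [← Scheme.Hom.comp_apply, this]
      exact hc2 c
    haveI : _root_.IsReduced (A.presheaf.stalk (w₀.base c)) := H Ω (w₀.base c) h1
    have := isReduced_stalk_of_flat m (w₀.base c)
    rwa [h2] at this
  · intro H L _ _ z hz
    letI : Algebra k L := ((algebraMap K L).comp (algebraMap k K)).toAlgebra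
    let sL := Spec.map (CommRingCat.ofHom (algebraMap K L))
    have sq : IsPullback (pullback.fst (FBase.bcStr f K) sL ≫ pullback.fst f sK)
        (pullback.snd (FBase.bcStr f K) sL) f (Spec.map (CommRingCat.ofHom (algebraMap k L))) := by
      rw [show Spec.map (CommRingCat.ofHom (algebraMap k L)) = sL ≫ sK from by
        rw [← Spec.map_comp, ← CommRingCat.ofHom_comp]]
      exact (IsPullback.of_hasPullback (pullback.snd f sK) sL).paste_horiz (IsPullback.of_hasPullback f sK)
    let i : FBase.bc (FBase.bcStr f K) L ≅ FBase.bc f L := sq.isoPullback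
    haveI := H L (i.hom.base z) ((Scheme.Hom.comp_apply i.hom (pullback.fst _ _) z).symm.trans
      ((congrArg (fun g : pullback (pullback.snd f sK) sL ⟶ X => g.base z) sq.isoPullback_hom_fst).trans
        ((Scheme.Hom.comp_apply _ _ _).trans (congrArg (pullback.fst f sK).base hz))))
    exact isReduced_stalk_of_smooth i.hom z

theorem isReduced_bc_of_forall_isGeomReducedAt {X : Scheme.{u}} {f : X ⟶ Spec (CommRingCat.of k)}
    (h : ∀ x, FBase.IsGeomReducedAt f x) (K : Type u) [Field K] [Algebra k K] : IsReduced (FBase.bc f K) :=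
  haveI := fun x' : ↥(FBase.bc f K) => h _ K x' rfl
  isReduced_of_isReduced_stalk _

theorem isGeomReducedAt_of_forall_isReduced_bc {X : Scheme.{u}} {f : X ⟶ Spec (CommRingCat.of k)}
    (h : ∀ (K : Type u) [Field K] [Algebra k K], IsReduced (FBase.bc f K)) (x : X) :
    FBase.IsGeomReducedAt f x :=
  fun K _ _ _ _ => haveI := h K; inferInstance

variable {F G : Sp (Spec (CommRingCat.of k))}

/-- Some etale neighbourhood of the point is geometrically reduced at it. -/
def GRPoint (F : Sp (Spec (CommRingCat.of k))) (x : Points F) : Prop :=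
  ∃ (U : Over (Spec (CommRingCat.of k))) (a : (yon (Spec (CommRingCat.of k))).obj U ⟶ F) (u : ↥U.left),
    RepWith @Etale a ∧ Points.ofPt a u = x ∧ FBase.IsGeomReducedAt U.hom u

/-- Two etale neighbourhoods of a point over a field `L` are geometrically reduced at it simultaneously. -/
theorem isGeomReducedAt_iff_of_ofPt_eq {S : Scheme.{u}} {F : Sp S} {L : Type u} [Field L] {U U' : Over S}
    {a : (yon S).obj U ⟶ F} {a' : (yon S).obj U' ⟶ F} (ha : RepWith @Etale a) (ha' : RepWith @Etale a')
    (q : U.left ⟶ Spec (CommRingCat.of L)) (q' : U'.left ⟶ Spec (CommRingCat.of L))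
    (hq : ∀ (W : Over S) (p : W ⟶ U) (p' : W ⟶ U'),
      (yon S).map p ≫ a = (yon S).map p' ≫ a' → p.left ≫ q = p'.left ≫ q')
    {u : U.left} {u' : U'.left} (h : Points.ofPt a u = Points.ofPt a' u') :
    FBase.IsGeomReducedAt q u ↔ FBase.IsGeomReducedAt q' u' := by
  obtain ⟨W, p, p', sqW⟩ := exists_isPullback_yon a a' ha.rep
  obtain ⟨w, hw, hw'⟩ := (ofPt_eq_ofPt_iff sqW u u').1 h
  haveI : Etale p'.left := etale_left (repWith_of_isPullback sqW ha)
  haveI : Etale p.left := etale_left (repWith_of_isPullback sqW.flip ha')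
  subst hw hw'
  rw [← isGeomReducedAt_etale_iff, ← isGeomReducedAt_etale_iff, hq W p p' sqW.w]

theorem grPoint_iff {x : Points F} {U : Over (Spec (CommRingCat.of k))}
    {a : (yon (Spec (CommRingCat.of k))).obj U ⟶ F} (ha : RepWith @Etale a) {u : U.left}
    (hu : Points.ofPt a u = x) : GRPoint F x ↔ FBase.IsGeomReducedAt U.hom u := by
  refine ⟨?_, fun h => ⟨U, a, u, ha, hu, h⟩⟩
  rintro ⟨U', a', u', ha', hu', h'⟩
  exact (isGeomReducedAt_iff_of_ofPt_eq ha' ha U'.hom U.hom
    (fun W p p' _ => (Over.w p).trans (Over.w p').symm) (hu'.trans hu.symm)).1 h'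

theorem forall_grPoint_iff {U : Over (Spec (CommRingCat.of k))}
    {a : (yon (Spec (CommRingCat.of k))).obj U ⟶ F} (ha : RepWith @Etale a) (hs : RepWith @Surjective a) :
    (∀ x, GRPoint F x) ↔ ∀ u, FBase.IsGeomReducedAt U.hom u := by
  refine ⟨fun h u => (grPoint_iff ha rfl).1 (h _), fun h x => ?_⟩
  obtain ⟨u, hu⟩ := surjective_ofPt hs x
  exact (grPoint_iff ha hu).2 (h u)

/-- The point of the scheme `Spec K` over `k`. -/
noncomputable abbrev fieldObj (k : Type u) [Field k] (K : Type u) [Field K] [Algebra k K] :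
    Over (Spec (CommRingCat.of k)) :=
  Over.mk (Spec.map (CommRingCat.ofHom (algebraMap k K)))

section Prod

variable {S : Scheme.{u}} {F : Sp S} {U : Over S} (a : (yon S).obj U ⟶ F) (T : Over S)

/-- The chart of a product with a scheme. -/
noncomputable def bcChart : (yon S).obj (U ⨯ T) ⟶ F ⨯ (yon S).obj T :=
  (PreservesLimitPair.iso (yon S) U T).hom ≫ prod.map a (𝟙 _)

theorem bcChart_fst : bcChart a T ≫ prod.fst = (yon S).map prod.fst ≫ a := by
  simp [bcChart, PreservesLimitPair.iso_hom]

theorem bcChart_snd : bcChart a T ≫ prod.snd = (yon S).map prod.snd := by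
  simp [bcChart, PreservesLimitPair.iso_hom]

variable {a}

theorem repWith_bcChart {P : MorphismProperty Scheme.{u}} [P.IsStableUnderBaseChange] (ha : RepWith P a) :
    RepWith P (bcChart a T) :=
  MorphismProperty.RespectsIso.precomp _ _ _
    (repWith_of_isPullback (IsPullback.of_prod_fst_with_id a ((yon S).obj T)) ha)

/-- Reducedness of a product with a scheme is seen on a chart. -/
theorem isReducedSp_prod_iff (ha : RepWith @Etale a) (hs : RepWith @Surjective a) :
    IsReducedSp (F ⨯ (yon S).obj T) ↔ IsReduced (pullback U.hom T.hom) := by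
  refine ⟨fun h => ?_, fun h => ⟨U ⨯ T, bcChart a T, repWith_bcChart T ha, repWith_bcChart T hs, ?_⟩⟩
  · haveI := isReduced_of_chart h (repWith_bcChart T ha)
    exact isReduced_of_isOpenImmersion (Over.prodLeftIsoPullback U T).inv
  · exact isReduced_of_isOpenImmersion (Over.prodLeftIsoPullback U T).hom

end Prod

/-- Geometric reducedness and reducedness of all base changes. -/
theorem forall_grPoint_iff_forall_isReducedSp (hF : IsAlgSpace F) :
    (∀ x, GRPoint F x) ↔ ∀ (K : Type u) [Field K] [Algebra k K],
      IsReducedSp (F ⨯ (yon (Spec (CommRingCat.of k))).obj (fieldObj k K)) := by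
  obtain ⟨U, a, ha, hs⟩ := hF.atlas
  rw [forall_grPoint_iff ha hs]
  refine ⟨fun h K _ _ => (isReducedSp_prod_iff (fieldObj k K) ha hs).2
    (isReduced_bc_of_forall_isGeomReducedAt h K), fun h u => ?_⟩
  exact isGeomReducedAt_of_forall_isReduced_bc (fun K _ _ => (isReducedSp_prod_iff (fieldObj k K) ha hs).1 (h K)) u

variable (K : Type u) [Field K] [Algebra k K]

theorem isGeomReducedAt_prod_snd_iff (U : Over (Spec (CommRingCat.of k))) (w : ↥(U ⨯ fieldObj k K).left) :
    FBase.IsGeomReducedAt (k := K) (prod.snd (X := U) (Y := fieldObj k K)).left w ↔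
      FBase.IsGeomReducedAt U.hom ((prod.fst (X := U) (Y := fieldObj k K)).left.base w) := by
  rw [← Over.prodLeftIsoPullback_hom_snd U (fieldObj k K), ← Over.prodLeftIsoPullback_hom_fst U (fieldObj k K),
    Scheme.Hom.comp_apply]
  exact (isGeomReducedAt_etale_iff (Over.prodLeftIsoPullback U (fieldObj k K)).hom
    (FBase.bcStr U.hom K) w).trans (isGeomReducedAt_bcStr_iff U.hom K _)

/-- Some etale neighbourhood of the point of the base change is geometrically reduced over the larger field. -/
def GRPointBC (F : Sp (Spec (CommRingCat.of k)))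
    (x' : Points (F ⨯ (yon (Spec (CommRingCat.of k))).obj (fieldObj k K))) : Prop :=
  ∃ (U' : Over (Spec (CommRingCat.of k)))
    (a' : (yon (Spec (CommRingCat.of k))).obj U' ⟶ F ⨯ (yon (Spec (CommRingCat.of k))).obj (fieldObj k K))
    (q : U' ⟶ fieldObj k K) (u' : ↥U'.left),
    RepWith @Etale a' ∧ a' ≫ prod.snd = (yon (Spec (CommRingCat.of k))).map q ∧
      Points.ofPt a' u' = x' ∧ FBase.IsGeomReducedAt (k := K) q.left u'

theorem grPoint_iff_grPointBC (hF : IsAlgSpace F)
    (x' : Points (F ⨯ (yon (Spec (CommRingCat.of k))).obj (fieldObj k K))) :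
    GRPoint F (Points.map prod.fst x') ↔ GRPointBC K F x' := by
  obtain ⟨U, a, ha, hs⟩ := hF.atlas
  have hc := repWith_bcChart (fieldObj k K) ha
  obtain ⟨w, rfl⟩ := surjective_ofPt (repWith_bcChart (fieldObj k K) hs) x'
  have hx : Points.map prod.fst (Points.ofPt (bcChart a (fieldObj k K)) w) =
      Points.ofPt a ((prod.fst (X := U) (Y := fieldObj k K)).left.base w) := by
    rw [Points.map_ofPt, bcChart_fst, ofPt_yon_comp]
  rw [hx, grPoint_iff ha rfl, ← isGeomReducedAt_prod_snd_iff K U w]
  refine ⟨fun h => ⟨_, _, prod.snd, w, hc, bcChart_snd a _, rfl, h⟩, ?_⟩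
  rintro ⟨U', a', q, u', ha', hq, hu', h'⟩
  refine (isGeomReducedAt_iff_of_ofPt_eq ha' hc q.left (prod.snd (X := U) (Y := fieldObj k K)).left
    (fun W p p' hpp => ?_) hu').1 h'
  refine congrArg CommaMorphism.left (?_ : p ≫ q = p' ≫ prod.snd)
  refine (yon (Spec (CommRingCat.of k))).map_injective ?_
  rw [Functor.map_comp, Functor.map_comp, ← hq, ← bcChart_snd a, reassoc_of% hpp]

end GeomRedSpLib
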